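import Mathlib

/-!
A normal `2`-complement criterion for a Sylow `2`-subgroup of class at most two with an odd order
group of automorphisms: the local analysis.
-/

set_option autoImplicit false

namespace Cfsg.Agent.MaxInv39

open Subgroup
open scoped commutatorElement

variable {G : Type*} [Group G]

/-- The elements of order at most two of the center of `D`. -/
def omegaCenter (D : Subgroup G) : Subgroup G where
  carrier := {v | v ∈ D ∧ (∀ d ∈ D, d * v = v * d) ∧ v * v = 1}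
  one_mem' := ⟨one_mem D, fun d _ => by simp, one_mul 1⟩
  mul_mem' := by
    rintro a b ⟨ha, ha', ha2⟩ ⟨hb, hb', hb2⟩
    refine ⟨mul_mem ha hb, fun d hd => ?_, ?_⟩
    · rw [← mul_assoc, ha' d hd, mul_assoc, hb' d hd, ← mul_assoc]
    · calc a * b * (a * b) = a * (b * a) * b := by group
        _ = a * (a * b) * b := by rw [ha' b hb]
        _ = a * a * (b * b) := by group
        _ = 1 := by rw [ha2, hb2, one_mul]
  inv_mem' := by
    rintro a ⟨ha, ha', ha2⟩
    rw [inv_eq_of_mul_eq_one_right ha2]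
    exact ⟨ha, ha', ha2⟩

theorem mem_omegaCenter {D : Subgroup G} {v : G} :
    v ∈ omegaCenter D ↔ v ∈ D ∧ (∀ d ∈ D, d * v = v * d) ∧ v * v = 1 := Iff.rfl

theorem omegaCenter_le (D : Subgroup G) : omegaCenter D ≤ D := fun _ h => h.1

theorem le_centralizer_omegaCenter (D : Subgroup G) :
    D ≤ centralizer (omegaCenter D : Set G) :=
  fun d hd => mem_centralizer_iff.2 fun _ hv => (hv.2.1 d hd).symm

theorem map_omegaCenter (f : MulAut G) (D : Subgroup G) :
    (omegaCenter D).map f.toMonoidHom = omegaCenter (D.map f.toMonoidHom) := by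
  ext x
  obtain ⟨v, rfl⟩ := f.surjective x
  have h : ∀ (H : Subgroup G) (w : G), f w ∈ H.map f.toMonoidHom ↔ w ∈ H :=
    fun H w => mem_map_iff_mem f.injective
  rw [h, mem_omegaCenter, mem_omegaCenter, h]
  refine and_congr_right fun _ => and_congr ?_ ?_
  · constructor
    · rintro hc _ ⟨d, hd, rfl⟩
      show f d * f v = f v * f d
      rw [← map_mul, hc d hd, map_mul]
    · intro hc d hd
      exact f.injective (by rw [map_mul, map_mul]; exact hc _ ⟨d, hd, rfl⟩)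
  · rw [← map_mul, EmbeddingLike.map_eq_one_iff]

theorem conj_mem_omegaCenter {D : Subgroup G} {g v : G} (hg : g ∈ normalizer (D : Set G))
    (hv : v ∈ omegaCenter D) : g * v * g⁻¹ ∈ omegaCenter D := by
  refine ⟨(mem_normalizer_iff.1 hg v).1 hv.1, fun d hd => ?_, ?_⟩
  · have := hv.2.1 (g⁻¹ * d * g) ((mem_normalizer_iff.1 hg _).2 (by simpa [mul_assoc] using hd))
    calc d * (g * v * g⁻¹) = g * (g⁻¹ * d * g * v) * g⁻¹ := by group
      _ = g * (v * (g⁻¹ * d * g)) * g⁻¹ := by rw [this]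
      _ = _ := by group
  · calc g * v * g⁻¹ * (g * v * g⁻¹) = g * (v * v) * g⁻¹ := by group
      _ = 1 := by rw [hv.2.2]; group

/-- A subgroup of `N_G(U)` fixing `y` modulo `U`. -/
def fixMod (U : Subgroup G) (y : G) : Subgroup G where
  carrier := {g | g ∈ normalizer (U : Set G) ∧ g * y * g⁻¹ * y⁻¹ ∈ U}
  one_mem' := ⟨one_mem _, by simp⟩
  mul_mem' := by
    rintro a b ⟨ha, ha'⟩ ⟨hb, hb'⟩
    refine ⟨mul_mem ha hb, ?_⟩
    have h := mul_mem ((mem_normalizer_iff.1 ha _).1 hb') ha'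
    have e : a * b * y * (a * b)⁻¹ * y⁻¹
        = a * (b * y * b⁻¹ * y⁻¹) * a⁻¹ * (a * y * a⁻¹ * y⁻¹) := by group
    rw [e]; exact h
  inv_mem' := by
    rintro a ⟨ha, ha'⟩
    refine ⟨inv_mem ha, ?_⟩
    have h := inv_mem ((mem_normalizer_iff.1 (inv_mem ha) _).1 ha')
    have e : a⁻¹ * y * a⁻¹⁻¹ * y⁻¹ = (a⁻¹ * (a * y * a⁻¹ * y⁻¹) * a⁻¹⁻¹)⁻¹ := by group
    rw [e]; exact h

theorem mem_zpowers_mul_self [Finite G] {k : G} (hk : Odd (orderOf k)) :
    k ∈ zpowers (k * k) := by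
  obtain ⟨n, hn⟩ := hk
  refine ⟨(n : ℤ) + 1, ?_⟩
  have h := pow_orderOf_eq_one k
  rw [hn] at h
  calc (k * k) ^ ((n : ℤ) + 1) = (k ^ 2) ^ (n + 1) := by rw [sq]; norm_cast
    _ = k ^ (2 * n + 1) * k := by rw [← pow_mul, ← pow_succ]; congr 1
    _ = k := by rw [h, one_mul]

/-- If an element `t` inverting `k` modulo `D` fixes the set `Y` pointwise modulo `U`, then so
does `k`, for `k` of odd order. -/
theorem conj_mem_of_inverted [Finite G] {U : Subgroup G} {t d k : G} (hk : Odd (orderOf k))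
    (hkU : k ∈ normalizer (U : Set G)) (htU : t ∈ normalizer (U : Set G))
    (hd : t * k * t⁻¹ = k⁻¹ * d) {y : G}
    (hy : t * y * t⁻¹ * y⁻¹ ∈ U) (hky : t * (k * y * k⁻¹) * t⁻¹ * (k * y * k⁻¹)⁻¹ ∈ U)
    (hdy : d * y * d⁻¹ * y⁻¹ ∈ U) : k * y * k⁻¹ * y⁻¹ ∈ U := by
  have ht1 : t ∈ fixMod U y := ⟨htU, hy⟩
  have ht2 : t ∈ fixMod U (k * y * k⁻¹) := ⟨htU, hky⟩
  have hdU : d ∈ normalizer (U : Set G) := by
    have e : d = k * (t * k * t⁻¹) := by rw [hd]; group
    rw [e]; exact mul_mem hkU (mul_mem (mul_mem htU hkU) (inv_mem htU))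
  have hd1 : d ∈ fixMod U y := ⟨hdU, hdy⟩
  suffices k ∈ fixMod U y from this.2
  have hkk : k * k ∈ fixMod U y := by
    refine ⟨mul_mem hkU hkU, ?_⟩
    have hkey : t * k * t⁻¹ * y * (t * k * t⁻¹)⁻¹ * (k * y * k⁻¹)⁻¹ ∈ U := by
      have h' := mul_mem ((mem_normalizer_iff.1 (mul_mem htU hkU) _).1
        ((inv_mem ht1 : t⁻¹ ∈ fixMod U y)).2) ht2.2
      have e : t * k * t⁻¹ * y * (t * k * t⁻¹)⁻¹ * (k * y * k⁻¹)⁻¹
          = t * k * (t⁻¹ * y * t⁻¹⁻¹ * y⁻¹) * (t * k)⁻¹ *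
            (t * (k * y * k⁻¹) * t⁻¹ * (k * y * k⁻¹)⁻¹) := by group
      rw [e]; exact h'
    rw [hd] at hkey
    have h4 := (mem_normalizer_iff.1 hkU _).1 hkey
    have h5 := mul_mem ((inv_mem h4)) hd1.2
    have e : k * k * y * (k * k)⁻¹ * y⁻¹
        = (k * (k⁻¹ * d * y * (k⁻¹ * d)⁻¹ * (k * y * k⁻¹)⁻¹) * k⁻¹)⁻¹
          * (d * y * d⁻¹ * y⁻¹) := by simp [mul_assoc]
    rw [e]; exact h5
  exact (zpowers_le.2 hkk) (mem_zpowers_mul_self hk)

/-- A group in which a proper subgroup `P` of exponent two contains the centralizers of its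
nonidentity elements and is self-normalizing: `P` has order two and inverts a nonidentity element
of odd order. -/
theorem exists_inverted_of_ti {Q : Type*} [Group Q] [Finite Q] (P : Subgroup Q) (hP : P ≠ ⊤)
    (h2 : ∀ u ∈ P, u * u = 1) (hC : ∀ u ∈ P, u ≠ 1 → centralizer {u} ≤ P)
    (hN : normalizer (P : Set Q) ≤ P) :
    ∀ u ∈ P, u ≠ 1 → ∀ v ∈ P, v ≠ 1 → u = v ∧ ∃ x, x ≠ 1 ∧ Odd (orderOf x) ∧ u * x * u⁻¹ = x⁻¹ := by
  intro u hu hu1 v hv hv1
  obtain ⟨g, hg⟩ : ∃ g, g ∉ P := by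
    by_contra h
    push Not at h
    exact hP (eq_top_iff.2 fun g _ => h g)
  have hcomm : ∀ a ∈ P, ∀ b ∈ P, a * b = b * a := fun a ha b hb => by
    have h := inv_eq_of_mul_eq_one_right (h2 _ (mul_mem ha hb))
    rw [mul_inv_rev, inv_eq_of_mul_eq_one_right (h2 a ha),
      inv_eq_of_mul_eq_one_right (h2 b hb)] at h
    exact h.symm
  have hmove : ∀ a ∈ P, a ≠ 1 → ∀ h : Q, h * a * h⁻¹ ∈ P → h ∈ P := by
    intro a ha ha1 h hh
    refine hN ?_
    have hne : h * a * h⁻¹ ≠ 1 := by simpa using ha1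
    have hle : ∀ b ∈ P, h * b * h⁻¹ ∈ P := fun b hb => hC _ hh hne (by
      rw [mem_centralizer_singleton_iff]
      calc h * b * h⁻¹ * (h * a * h⁻¹) = h * (b * a) * h⁻¹ := by group
        _ = h * (a * b) * h⁻¹ := by rw [hcomm b hb a ha]
        _ = _ := by group)
    exact mem_normalizer_iff_map_conj_eq.2 (eq_of_le_of_card_ge
      (by rintro _ ⟨b, hb, rfl⟩; exact hle b hb)
      (card_map_of_injective (MulAut.conj h).injective).ge)
  set v' := g * v * g⁻¹ with hv'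
  have hv'P : v' ∉ P := fun h => hg (hmove v hv hv1 g h)
  have hv'2 : v' * v' = 1 := by
    calc v' * v' = g * (v * v) * g⁻¹ := by rw [hv']; group
      _ = 1 := by rw [h2 v hv]; group
  have hu2 := h2 u hu
  have hui : u⁻¹ = u := inv_eq_of_mul_eq_one_right hu2
  have hv'i : v'⁻¹ = v' := inv_eq_of_mul_eq_one_right hv'2
  set x := u * v' with hx
  have hxi : u * x * u⁻¹ = x⁻¹ := by
    rw [hx, mul_inv_rev, hui, hv'i, ← mul_assoc, hu2, one_mul]
  have hx1 : x ≠ 1 := fun h => hv'P (by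
    rw [show v' = u⁻¹ * x by rw [hx]; group, h, mul_one]; exact inv_mem hu)
  have hodd : Odd (orderOf x) := by
    rw [← Nat.not_even_iff_odd]
    rintro ⟨m, hm⟩
    set z := x ^ m with hz
    have hz2 : z * z = 1 := by rw [hz, ← pow_add, ← hm, pow_orderOf_eq_one]
    have hz1 : z ≠ 1 := fun h => by
      have h1 := orderOf_dvd_of_pow_eq_one h
      have h2 := orderOf_pos x
      have h3 := Nat.le_of_dvd (by omega) h1
      omega
    have hzu : z * u = u * z := by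
      have h : u * z * u⁻¹ = z⁻¹ := by rw [hz, ← conj_pow, hxi, inv_pow]
      rw [inv_eq_of_mul_eq_one_right hz2, mul_inv_eq_iff_eq_mul] at h
      exact h.symm
    have hzP : z ∈ P := hC u hu hu1 (mem_centralizer_singleton_iff.2 hzu)
    refine hv'P (hC z hzP hz1 (mem_centralizer_singleton_iff.2 ?_))
    have hzx : z * x = x * z := (Commute.self_pow x m).symm.eq
    calc v' * z = u⁻¹ * (x * z) := by rw [hx]; group
      _ = u⁻¹ * z * x := by rw [← hzx]; group
      _ = z * u⁻¹ * x := by rw [hui, hzu]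
      _ = z * v' := by rw [hx]; group
  refine ⟨?_, x, hx1, hodd, hxi⟩
  obtain ⟨m, hm⟩ := hodd
  -- `v'` is a conjugate of `u`
  have hxmi : u * x ^ m = (x ^ m)⁻¹ * u := by
    rw [← mul_inv_eq_iff_eq_mul, ← conj_pow, hxi, inv_pow]
  have hconj : (x ^ m) * u * (x ^ m)⁻¹ = v' := by
    have h1 : x ^ (2 * m + 1) = 1 := by rw [← hm]; exact pow_orderOf_eq_one x
    calc (x ^ m) * u * (x ^ m)⁻¹ = x ^ m * (u * (x ^ m)⁻¹) := by group
      _ = x ^ m * (x ^ m * u) := by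
          congr 1
          calc u * (x ^ m)⁻¹ = x ^ m * ((x ^ m)⁻¹ * u) * (x ^ m)⁻¹ := by group
            _ = x ^ m * u := by rw [← hxmi]; group
      _ = x ^ (2 * m + 1) * (x⁻¹ * u) := by group
      _ = v' := by rw [h1, one_mul, hx, mul_inv_rev, hui, hv'i, mul_assoc, hu2, mul_one]
  have hh : (g⁻¹ * x ^ m) * u * (g⁻¹ * x ^ m)⁻¹ = v := by
    calc (g⁻¹ * x ^ m) * u * (g⁻¹ * x ^ m)⁻¹ = g⁻¹ * ((x ^ m) * u * (x ^ m)⁻¹) * g := by group
      _ = v := by rw [hconj, hv']; group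
  have hhP := hmove u hu hu1 _ (hh.symm ▸ hv)
  rw [← hh, hcomm _ hhP u hu]; group

end Cfsg.Agent.MaxInv39
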