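import Cfsg.Agent.MaxInv39.Partner
import Cfsg.Agent.Lib.Transfer.Focal

/-!
A normal `2`-complement criterion: a Sylow `2`-subgroup of class at most two, invariant under a
group of automorphisms of odd order, whose invariant normal subgroups all have it as normalizer.
-/

set_option autoImplicit false

namespace Cfsg.Agent.MaxInv39

open Cfsg Subgroup
open scoped commutatorElement

variable {G : Type*} [Group G] [Finite G] {S : Subgroup G}

/-- With an odd group `Γ` of automorphisms as in `hasNormalPComplement_two`, there is no good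
subgroup. -/
theorem not_good (h : Ctx S) (Γ : Subgroup (MulAut G)) (hodd : ∀ f ∈ Γ, Odd (orderOf f))
    (hinv : ∀ f ∈ Γ, S.map f.toMonoidHom = S)
    (hkey : ∀ Y : Subgroup G, Y ≤ S → Y ≠ ⊥ → (∀ f ∈ Γ, Y.map f.toMonoidHom = Y) →
      S ≤ normalizer (Y : Set G) → normalizer (Y : Set G) = S) (D' : Subgroup G) :
    ¬ Good S D' := by
  intro hD'
  classical
  obtain ⟨D, hDgood, hDmax⟩ := (Set.toFinite {D : Subgroup G | Good S D}).exists_maximalFor
    (fun D : Subgroup G => Nat.card D) _ ⟨D', hD'⟩
  have hD : MaxGood S D := ⟨hDgood, fun E hE => by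
    rcases le_total (Nat.card E) (Nat.card D) with hle | hle
    · exact hle
    · exact hDmax hE hle⟩
  by_cases hall : ∀ f ∈ Γ, (omegaCenter D).map f.toMonoidHom ≤ D
  · set U := ⨆ f : Γ, (omegaCenter D).map (f : MulAut G).toMonoidHom with hU
    have hUD : U ≤ D := iSup_le fun f => hall f f.2
    have hVU : omegaCenter D ≤ U :=
      le_iSup_of_le (⟨1, one_mem _⟩ : Γ) (fun x hx => ⟨x, hx, rfl⟩)
    obtain ⟨k, hkS, hk, -⟩ := hD.exists_moving h
    have hUb : U ≠ ⊥ := by
      intro hb
      have h1 : centralizer (omegaCenter D : Set G) = ⊤ := by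
        rw [eq_bot_iff.2 (hVU.trans hb.le)]
        exact eq_top_iff.2 fun x _ => mem_centralizer_iff.2 fun y hy => by
          rw [mem_bot.1 hy]; simp
      rw [hD.cent_eq h] at h1
      exact hkS (hD.le (h1.ge (mem_top k)))
    have hUinv : ∀ f ∈ Γ, U.map f.toMonoidHom = U := by
      intro f hf
      refine eq_of_le_of_card_ge ?_ (card_map_of_injective
        (show Function.Injective f.toMonoidHom from f.injective)).ge
      rw [hU, Subgroup.map_iSup]
      refine iSup_le fun g => ?_
      rw [Subgroup.map_map]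
      exact le_iSup_of_le (⟨f * g, mul_mem hf g.2⟩ : Γ) le_rfl
    have hUS : S ≤ normalizer (U : Set G) := by
      intro s hs
      refine mem_normalizer_iff_map_conj_eq.2 (eq_of_le_of_card_ge ?_
        (card_map_of_injective (MulAut.conj s).injective).ge)
      rw [hU, Subgroup.map_iSup]
      refine iSup_mono fun g => ?_
      rw [map_omegaCenter]
      rintro _ ⟨x, hx, rfl⟩
      exact conj_mem_omegaCenter ((hD.toGood.map (hinv g g.2)).le_norm h hs) hx
    refine hkS ((hkey U (hUD.trans hD.le) hUb hUinv hUS).le ?_)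
    refine mem_normalizer_iff_map_conj_eq.2 (eq_of_le_of_card_ge ?_
      (card_map_of_injective (MulAut.conj k).injective).ge)
    rintro _ ⟨y, hy, rfl⟩
    have h1 := mul_mem (hVU (hk y (hUD hy))) hy
    simpa [mul_assoc] using h1
  push Not at hall
  obtain ⟨f, hf, hfD⟩ := hall
  set E := D.map f.toMonoidHom with hEdef
  set F := E.map f.toMonoidHom with hFdef
  have hE : MaxGood S E := hD.map (hinv f hf)
  have hF : MaxGood S F := hE.map (hinv f hf)
  rw [map_omegaCenter, ← hEdef] at hfD
  obtain ⟨w, hw, hwD⟩ := SetLike.not_le_iff_exists.1 hfD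
  -- `f` applied to the pair gives a pair `(F, E)`, hence a second partner of `E`
  have hwF : f w ∈ omegaCenter F := by
    rw [hFdef, ← map_omegaCenter]; exact ⟨w, hw, rfl⟩
  have hwFE : f w ∉ E := fun hc => hwD ((mem_map_iff_mem
    (show Function.Injective f.toMonoidHom from f.injective)).1 hc)
  obtain ⟨v, -, hv, hvF, -, -, -, -, -, -⟩ := hF.pair h hE hwF hwFE
  have hDF : D = F := hE.partner_unique h hD hF hw hwD hv hvF
  -- so `f ^ 2` fixes `D`, hence so does `f`
  let Stab : Subgroup (MulAut G) :=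
    { carrier := {g | D.map g.toMonoidHom = D}
      one_mem' := Subgroup.map_id D
      mul_mem' := fun {a b} ha hb => by
        show D.map (a * b).toMonoidHom = D
        conv_rhs => rw [← show D.map a.toMonoidHom = D from ha,
          ← show D.map b.toMonoidHom = D from hb, Subgroup.map_map]
        rfl
      inv_mem' := fun {a} ha => by
        show D.map a⁻¹.toMonoidHom = D
        conv_lhs => rw [← show D.map a.toMonoidHom = D from ha, Subgroup.map_map]
        convert Subgroup.map_id D using 2
        ext x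
        exact a.symm_apply_apply x }
  have hff : f * f ∈ Stab := by
    show D.map (f * f).toMonoidHom = D
    conv_rhs => rw [hDF, hFdef, hEdef, Subgroup.map_map]
    rfl
  have : Finite (MulAut G) :=
    Finite.of_injective (fun e : MulAut G => (e : G → G)) DFunLike.coe_injective
  have hfD' : f ∈ Stab := (zpowers_le.2 hff) (mem_zpowers_mul_self (hodd f hf))
  have hED : E = D := hfD'
  exact hwD (omegaCenter_le D (hED ▸ hw))

/-- The normal `2`-complement criterion. -/
theorem hasNormalPComplement_two (P : Sylow 2 G) (Γ : Subgroup (MulAut G))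
    (hodd : ∀ f ∈ Γ, Odd (orderOf f))
    (hinv : ∀ f ∈ Γ, (P : Subgroup G).map f.toMonoidHom = P)
    (hclass : ∀ a ∈ (P : Subgroup G), ∀ b ∈ (P : Subgroup G), ∀ c ∈ (P : Subgroup G),
      c * ⁅a, b⁆ = ⁅a, b⁆ * c)
    (hkey : ∀ Y : Subgroup G, Y ≤ P → Y ≠ ⊥ → (∀ f ∈ Γ, Y.map f.toMonoidHom = Y) →
      (P : Subgroup G) ≤ normalizer (Y : Set G) → normalizer (Y : Set G) = P) :
    HasNormalPComplement 2 G := by
  set S : Subgroup G := P.toSubgroup with hSdef
  set Z := S ⊓ centralizer (S : Set G) with hZdef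
  refine Transfer.hasNormalPComplement_of_control P fun x hx y hy ⟨g, hg⟩ => ?_
  rcases eq_or_ne S ⊥ with hb | hb
  · have hx1 := mem_bot.1 (hb.le hx)
    refine ⟨1, one_mem _, ?_⟩
    rw [← hg, hx1]; simp
  have hnS : normalizer (S : Set G) = S :=
    hkey S le_rfl hb hinv le_normalizer
  -- the center of `S` and its involutions
  have : Nontrivial S := S.nontrivial_iff_ne_bot.2 hb
  have hΩb : omegaCenter S ≠ ⊥ := by
    obtain ⟨c, hc⟩ := exists_prime_orderOf_dvd_card' (G := center S) 2 (by
      obtain ⟨n, hn⟩ := IsPGroup.iff_card.1 (P.2.to_subgroup (center S) : IsPGroup 2 (center S))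
      rw [hn]
      refine dvd_pow_self 2 ?_
      rintro rfl
      have := P.2.center_nontrivial
      exact (one_lt_card_iff_ne_bot (center S)).2 ((center S).nontrivial_iff_ne_bot.1 inferInstance) |>.ne'
        (by rw [hn, pow_zero]))
    intro hΩ
    have h1 : ((c : S) : G) ∈ omegaCenter S := by
      refine ⟨(c : S).2, fun d hd => congrArg Subtype.val (mem_center_iff.1 c.2 ⟨d, hd⟩), ?_⟩
      have h2 : c * c = 1 := by rw [← sq, ← hc, pow_orderOf_eq_one]
      exact congrArg (fun a : center S => ((a : S) : G)) h2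
    rw [hΩ, mem_bot, OneMemClass.coe_eq_one, OneMemClass.coe_eq_one] at h1
    simp [h1] at hc
  have hcentΩ : centralizer (omegaCenter S : Set G) ≤ S := by
    refine (centralizer_le_normalizer _).trans (hkey _ (omegaCenter_le S) hΩb
      (fun f hf => by rw [map_omegaCenter, hinv f hf]) fun s hs => ?_).le
    exact mem_normalizer_iff_map_conj_eq.2 (eq_of_le_of_card_ge
      (by rintro _ ⟨v, hv, rfl⟩; exact conj_mem_omegaCenter (le_normalizer hs) hv)
      (card_map_of_injective (MulAut.conj s).injective).ge)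
  have h : Ctx S := ⟨P.2, hclass, hcentΩ, hnS.le⟩
  have hno := not_good h Γ hodd hinv hkey
  -- the center is weakly closed
  have hW : IsWeaklyClosed Z S := by
    refine ⟨inf_le_left, fun a hle => ?_⟩
    by_contra hne
    set T := S.map (MulAut.conj a).toMonoidHom with hT
    have hcomm : ∀ z ∈ Z, a * z * a⁻¹ ∈ S := fun z hz => hle ⟨z, hz, rfl⟩
    have hZT : Z ≤ T := by
      intro x hx
      refine ⟨a⁻¹ * x * a, h.cent (mem_centralizer_iff.2 fun v hv => ?_), by simp [mul_assoc]⟩
      have h1 := mem_centralizer_iff.1 hx.2 _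
        (hcomm v ⟨hv.1, mem_centralizer_iff.2 hv.2.1⟩)
      calc v * (a⁻¹ * x * a) = a⁻¹ * (a * v * a⁻¹ * x) * a := by group
        _ = a⁻¹ * (x * (a * v * a⁻¹)) * a := by rw [h1]
        _ = _ := by group
    have hgood : Good S (S ⊓ T) := by
      refine ⟨le_inf inf_le_left hZT, inf_le_left, fun he => hne ?_⟩
      have hTn : T ≤ normalizer ((S ⊓ T : Subgroup G) : Set G) := by
        rintro _ ⟨s, hs, rfl⟩
        refine mem_normalizer_iff_map_conj_eq.2 (eq_of_le_of_card_ge ?_
          (card_map_of_injective (MulAut.conj _).injective).ge)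
        rintro _ ⟨y, hy, rfl⟩
        obtain ⟨y₀, hy₀, rfl⟩ := hy.2
        have hc : MulAut.conj a ⁅s, y₀⁆ ∈ S ⊓ T :=
          ⟨hle ⟨_, comm_mem h hs hy₀, rfl⟩, ⟨_, (comm_mem h hs hy₀).1, rfl⟩⟩
        have := mul_mem hc hy
        simpa [commutatorElement_def, mul_assoc] using this
      rw [he] at hTn
      have hST : T = S :=
        eq_of_le_of_card_ge hTn (card_map_of_injective (MulAut.conj a).injective).ge
      have haS : a ∈ S := h.norm (mem_normalizer_iff_map_conj_eq.2 hST)
      refine eq_of_le_of_card_ge ?_ (card_map_of_injective (MulAut.conj a).injective).ge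
      rintro _ ⟨z, hz, rfl⟩
      show a * z * a⁻¹ ∈ Z
      rw [mem_centralizer_iff.1 hz.2 a haS, mul_inv_cancel_right]
      exact hz
    exact hno _ hgood
  subst hg
  obtain ⟨n, hn, hnx⟩ := Transfer.conj_normalizer_of_weaklyClosed P inf_le_right hW hx hy
  refine ⟨n, (hkey Z inf_le_left ?_ ?_ ?_).le hn, hnx⟩
  · exact fun hZb => hΩb (eq_bot_iff.2 (fun v hv => hZb.le ⟨hv.1, mem_centralizer_iff.2 hv.2.1⟩))
  · intro f hf
    refine eq_of_le_of_card_ge ?_ (card_map_of_injective
      (show Function.Injective f.toMonoidHom from f.injective)).ge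
    rintro _ ⟨z, hz, rfl⟩
    refine ⟨(hinv f hf).le ⟨z, hz.1, rfl⟩, mem_centralizer_iff.2 fun c hc => ?_⟩
    obtain ⟨c₀, hc₀, rfl⟩ := (hinv f hf).ge hc
    show f c₀ * f z = f z * f c₀
    rw [← map_mul, mem_centralizer_iff.1 hz.2 c₀ hc₀, map_mul]
  · intro s hs
    refine mem_normalizer_iff.2 fun z => ⟨fun hz => ?_, fun hz => ?_⟩
    · rw [mem_centralizer_iff.1 hz.2 s hs, mul_inv_cancel_right]; exact hz
    · have h1 := mem_centralizer_iff.1 hz.2 s hs
      rw [show s * (s * z * s⁻¹) = s * (s * z) * s⁻¹ by group,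
        show s * z * s⁻¹ * s = s * z by group, mul_inv_eq_iff_eq_mul] at h1
      have h2 : s * z = z * s := mul_left_cancel (h1.trans (mul_assoc s z s))
      rwa [h2, mul_inv_cancel_right] at hz

end Cfsg.Agent.MaxInv39
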