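import Cfsg.Agent.MaxInv39.ClassTwo

/-!
Maximal subgroups of a Sylow `2`-subgroup of class at most two with normalizer outside it: the
local structure.
-/

set_option autoImplicit false

namespace Cfsg.Agent.MaxInv39

open Subgroup
open scoped commutatorElement

variable {G : Type*} [Group G]

/-- `S` is a `2`-group of class at most two containing the centralizer of the involutions of its
center. -/
structure Ctx (S : Subgroup G) : Prop where
  two : IsPGroup 2 S
  class_two : ∀ a ∈ S, ∀ b ∈ S, ∀ c ∈ S, c * ⁅a, b⁆ = ⁅a, b⁆ * c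
  cent : centralizer (omegaCenter S : Set G) ≤ S
  norm : normalizer (S : Set G) ≤ S

/-- `D` contains the center of `S` and has normalizer different from `S`. -/
structure Good (S D : Subgroup G) : Prop where
  center_le : S ⊓ centralizer (S : Set G) ≤ D
  le : D ≤ S
  move : normalizer (D : Set G) ≠ S

/-- A good subgroup of largest order. -/
structure MaxGood (S D : Subgroup G) : Prop extends Good S D where
  maximal : ∀ D' : Subgroup G, Good S D' → Nat.card D' ≤ Nat.card D

variable {S D : Subgroup G}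

theorem comm_mem (h : Ctx S) {a b : G} (ha : a ∈ S) (hb : b ∈ S) :
    ⁅a, b⁆ ∈ S ⊓ centralizer (S : Set G) := by
  refine ⟨?_, mem_centralizer_iff.2 fun c hc => h.class_two a ha b hb c hc⟩
  show a * b * a⁻¹ * b⁻¹ ∈ S
  exact S.mul_mem (S.mul_mem (S.mul_mem ha hb) (S.inv_mem ha)) (S.inv_mem hb)

theorem comm_mul_left (h : Ctx S) {a b c : G} (ha : a ∈ S) (hb : b ∈ S) (hc : c ∈ S) :
    ⁅a * b, c⁆ = ⁅a, c⁆ * ⁅b, c⁆ := by
  calc ⁅a * b, c⁆ = a * ⁅b, c⁆ * (c * a⁻¹ * c⁻¹) := by simp only [commutatorElement_def]; group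
    _ = ⁅b, c⁆ * a * (c * a⁻¹ * c⁻¹) := by rw [h.class_two b hb c hc a ha]
    _ = ⁅b, c⁆ * ⁅a, c⁆ := by simp only [commutatorElement_def]; group
    _ = _ := h.class_two a ha c hc _ (comm_mem h hb hc).1

theorem comm_mul_right (h : Ctx S) {a b c : G} (ha : a ∈ S) (hb : b ∈ S) (hc : c ∈ S) :
    ⁅a, b * c⁆ = ⁅a, b⁆ * ⁅a, c⁆ := by
  calc ⁅a, b * c⁆ = ⁅a, b⁆ * (b * ⁅a, c⁆) * b⁻¹ := by simp only [commutatorElement_def]; group
    _ = ⁅a, b⁆ * (⁅a, c⁆ * b) * b⁻¹ := by rw [h.class_two a ha c hc b hb]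
    _ = _ := by group

theorem Good.le_norm (h : Ctx S) (hD : Good S D) : S ≤ normalizer (D : Set G) := by
  intro s hs
  refine mem_normalizer_iff.2 fun d => ⟨fun hd => ?_, fun hd => ?_⟩
  · have := mul_mem (hD.center_le (comm_mem h hs (hD.le hd))) hd
    simpa [commutatorElement_def, mul_assoc] using this
  · have := mul_mem (hD.center_le (comm_mem h (inv_mem hs) (hD.le hd))) hd
    simpa [commutatorElement_def, mul_assoc] using this

theorem Good.omegaCenter_le (hD : Good S D) : omegaCenter S ≤ omegaCenter D := fun _ hz =>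
  ⟨hD.center_le ⟨hz.1, mem_centralizer_iff.2 hz.2.1⟩, fun d hd => hz.2.1 d (hD.le hd), hz.2.2⟩

theorem Good.cent_le (h : Ctx S) (hD : Good S D) : centralizer (omegaCenter D : Set G) ≤ S :=
  (centralizer_le (Set.Subset.trans (fun _ hx => hD.omegaCenter_le hx) Set.Subset.rfl)).trans h.cent

theorem Good.map {f : MulAut G} (hf : S.map f.toMonoidHom = S) (hD : Good S D) :
    Good S (D.map f.toMonoidHom) := by
  refine ⟨?_, ?_, fun hn => hD.move ?_⟩
  · intro x hx
    obtain ⟨y, rfl⟩ := f.surjective x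
    have hiff : ∀ w, f w ∈ S ↔ w ∈ S := fun w => by
      conv_lhs => rw [← hf]
      exact mem_map_iff_mem f.injective
    refine ⟨y, hD.center_le ⟨(hiff y).1 hx.1, mem_centralizer_iff.2 fun c hc => ?_⟩, rfl⟩
    exact f.injective (by
      rw [map_mul, map_mul]
      exact mem_centralizer_iff.1 hx.2 _ ((hiff c).2 hc))
  · exact (Subgroup.map_mono hD.le).trans hf.le
  · rw [← map_equiv_normalizer_eq] at hn
    exact (map_injective f.injective) (hn.trans hf.symm)

variable [Finite G]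

omit [Finite G] in
theorem MaxGood.map {f : MulAut G} (hf : S.map f.toMonoidHom = S) (hD : MaxGood S D) :
    MaxGood S (D.map f.toMonoidHom) :=
  ⟨hD.toGood.map hf, fun D' hD' =>
    (card_map_of_injective (K := D) (show Function.Injective f.toMonoidHom from f.injective)).symm ▸ hD.maximal D' hD'⟩

theorem MaxGood.cent_eq (h : Ctx S) (hD : MaxGood S D) :
    centralizer (omegaCenter D : Set G) = D := by
  set C := centralizer (omegaCenter D : Set G)
  have hle : normalizer (D : Set G) ≤ normalizer (C : Set G) := by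
    intro g hg
    refine mem_normalizer_iff.2 fun c => ⟨fun hc => ?_, fun hc => ?_⟩
    · refine mem_centralizer_iff.2 fun v hv => ?_
      have h1 := mem_centralizer_iff.1 hc _ (conj_mem_omegaCenter (inv_mem hg) hv)
      calc v * (g * c * g⁻¹) = g * (g⁻¹ * v * g⁻¹⁻¹ * c) * g⁻¹ := by group
        _ = g * (c * (g⁻¹ * v * g⁻¹⁻¹)) * g⁻¹ := by rw [h1]
        _ = _ := by group
    · refine mem_centralizer_iff.2 fun v hv => ?_
      have h1 := mem_centralizer_iff.1 hc _ (conj_mem_omegaCenter hg hv)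
      calc v * c = g⁻¹ * (g * v * g⁻¹ * (g * c * g⁻¹)) * g := by group
        _ = g⁻¹ * (g * c * g⁻¹ * (g * v * g⁻¹)) * g := by rw [h1]
        _ = _ := by group
  have hC : Good S C := by
    refine ⟨hD.center_le.trans (le_centralizer_omegaCenter D), hD.toGood.cent_le h, fun he => ?_⟩
    exact hD.move (le_antisymm (hle.trans he.le) (hD.toGood.le_norm h))
  exact (eq_of_le_of_card_ge (le_centralizer_omegaCenter D) (hD.maximal C hC)).symm

omit [Finite G] in
theorem MaxGood.comm_omega (h : Ctx S) (hD : MaxGood S D) {v s : G} (hv : v ∈ omegaCenter D)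
    (hs : s ∈ S) : ⁅s, v⁆ * ⁅s, v⁆ = 1 := by
  rw [← comm_mul_right h hs (hD.le hv.1) (hD.le hv.1), hv.2.2]
  simp [commutatorElement_def]

theorem MaxGood.sq_mem (h : Ctx S) (hD : MaxGood S D) {s : G} (hs : s ∈ S) : s * s ∈ D := by
  rw [← hD.cent_eq h, mem_centralizer_iff]
  intro v hv
  have h1 : ⁅s * s, v⁆ = 1 := by rw [comm_mul_left h hs hs (hD.le hv.1), hD.comm_omega h hv hs]
  exact (commutatorElement_eq_one_iff_mul_comm.1 h1).symm

/-- `D` has index two in `S` and some element of odd order is inverted modulo `D` by the elements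
of `S` outside `D`. -/
theorem MaxGood.index_two (h : Ctx S) (hD : MaxGood S D) :
    ∃ t k d : G, t ∈ S ∧ t ∉ D ∧ k ∈ normalizer (D : Set G) ∧ k ≠ 1 ∧ Odd (orderOf k) ∧ d ∈ D ∧
      t * k * t⁻¹ = k⁻¹ * d ∧ ∀ s ∈ S, s ∉ D → t⁻¹ * s ∈ D := by
  classical
  set N := normalizer (D : Set G) with hN
  have hSN : S ≤ N := hD.toGood.le_norm h
  have hSD : ∃ t ∈ S, t ∉ D := by
    by_contra hall
    push Not at hall
    have : D = S := le_antisymm hD.le hall
    exact hD.move (le_antisymm (this ▸ h.norm) hSN)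
  obtain ⟨t, ht, htD⟩ := hSD
  have : (D.subgroupOf N).Normal := normal_in_normalizer
  set π := QuotientGroup.mk' (D.subgroupOf N) with hπ
  set P := (S.subgroupOf N).map π with hP
  have hπ1 : ∀ g : N, π g = 1 ↔ (g : G) ∈ D := fun g => by
    rw [hπ, QuotientGroup.mk'_apply, QuotientGroup.eq_one_iff, mem_subgroupOf]
  have hPmem : ∀ g : N, π g ∈ P ↔ (g : G) ∈ S := fun g => by
    refine ⟨?_, fun hg => ⟨g, hg, rfl⟩⟩
    rintro ⟨s, hs, he⟩
    have : (s⁻¹ * g : G) ∈ D := by
      have h1 : π (s⁻¹ * g) = 1 := by rw [map_mul, map_inv, he, inv_mul_cancel]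
      simpa using (hπ1 _).1 h1
    simpa using mul_mem (mem_subgroupOf.1 hs) (hD.le this)
  have hsurj : Function.Surjective π := QuotientGroup.mk'_surjective (D.subgroupOf N)
  have hP2 : ∀ u ∈ P, u * u = 1 := by
    rintro _ ⟨s, hs, rfl⟩
    rw [← map_mul, hπ1]
    exact hD.sq_mem h hs
  have hPtop : P ≠ ⊤ := fun he => hD.move (le_antisymm
    (fun g hg => (hPmem ⟨g, hg⟩).1 (he.ge (mem_top _))) hSN)
  have hmove : ∀ s ∈ S, s ∉ D → ∀ g ∈ N, g * s * g⁻¹ * s⁻¹ ∈ D → g ∈ S := by
    intro s hs hsD g hg hgs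
    set T := D ⊔ zpowers s with hT
    have hTS : T ≤ S := sup_le hD.le (zpowers_le.2 hs)
    have hnT : normalizer (T : Set G) = S := by
      by_contra hne
      have hgood : Good S T := ⟨hD.center_le.trans le_sup_left, hTS, hne⟩
      have := eq_of_le_of_card_ge (le_sup_left : D ≤ T) (hD.maximal T hgood)
      exact hsD (this.ge (mem_sup_right (mem_zpowers s)))
    rw [← hnT]
    refine mem_normalizer_iff_map_conj_eq.2 (eq_of_le_of_card_ge ?_
      (card_map_of_injective (MulAut.conj g).injective).ge)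
    rw [hT, Subgroup.map_sup, sup_le_iff, MonoidHom.map_zpowers, zpowers_le]
    refine ⟨?_, ?_⟩
    · rintro _ ⟨d, hd, rfl⟩
      exact mem_sup_left ((mem_normalizer_iff.1 hg d).1 hd)
    · have := mul_mem (mem_sup_left hgs : g * s * g⁻¹ * s⁻¹ ∈ T) (mem_sup_right (mem_zpowers s))
      simpa [mul_assoc] using this
  have hC : ∀ u ∈ P, u ≠ 1 → centralizer {u} ≤ P := by
    rintro _ ⟨s, hs, rfl⟩ hne g hg
    obtain ⟨g, rfl⟩ := hsurj g
    rw [hPmem]
    refine hmove s hs (fun hsD => hne ((hπ1 s).2 hsD)) g g.2 ?_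
    have h1 : π (g * s * g⁻¹ * s⁻¹) = 1 := by
      rw [map_mul, map_mul, map_mul, map_inv, map_inv, mem_centralizer_singleton_iff.1 hg]
      group
    simpa using (hπ1 _).1 h1
  have hNP : normalizer (P : Set (N ⧸ D.subgroupOf N)) ≤ P := by
    intro g hg
    obtain ⟨g, rfl⟩ := hsurj g
    rw [hPmem]
    refine h.norm (mem_normalizer_iff_map_conj_eq.2 (eq_of_le_of_card_ge ?_
      (card_map_of_injective (MulAut.conj (g : G)).injective).ge))
    rintro _ ⟨s, hs, rfl⟩
    have h1 := (mem_normalizer_iff.1 hg _).1 ((hPmem ⟨s, hSN hs⟩).2 hs)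
    rw [← map_inv, ← map_mul, ← map_mul, hPmem] at h1
    exact h1
  have hkey := exists_inverted_of_ti P hPtop hP2 hC hNP (π ⟨t, hSN ht⟩) ((hPmem _).2 ht)
    (fun he => htD ((hπ1 _).1 he))
  obtain ⟨-, x, hx1, hxodd, hxi⟩ := hkey (π ⟨t, hSN ht⟩) ((hPmem _).2 ht)
    (fun he => htD ((hπ1 _).1 he))
  obtain ⟨k₀, rfl⟩ := hsurj x
  set j := 2 ^ (orderOf k₀).factorization 2 with hj
  set k := k₀ ^ j with hk
  have hkodd : Odd (orderOf k) := by
    rw [hk, orderOf_pow, hj,
      Nat.gcd_eq_right (Nat.ordProj_dvd _ _), Nat.odd_iff]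
    have := Nat.not_dvd_ordCompl Nat.prime_two (orderOf_pos k₀).ne'
    omega
  have hkne : π k ≠ 1 := by
    intro he
    rw [hk, map_pow] at he
    refine hx1 (orderOf_eq_one_iff.1 (Nat.eq_one_of_dvd_coprimes
      ((Nat.coprime_two_left.2 hxodd).pow_left ((orderOf k₀).factorization 2))
      (orderOf_dvd_of_pow_eq_one he) dvd_rfl))
  refine ⟨t, k, ((k : N) : G) * (t * (k : N) * t⁻¹), ht, htD, k.2, fun he => hkne ?_, ?_, ?_, ?_, ?_⟩
  · rw [show k = 1 from Subtype.ext he, map_one]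
  · rwa [← Subgroup.orderOf_coe] at hkodd
  · have h1 : π (k * (⟨t, hSN ht⟩ * k * ⟨t, hSN ht⟩⁻¹)) = 1 := by
      rw [map_mul, map_mul, map_mul, map_inv, hk, map_pow, ← conj_pow, hxi, inv_pow,
        mul_inv_cancel]
    simpa [mul_assoc] using (hπ1 _).1 h1
  · group
  · intro s hs hsD
    obtain ⟨he, -⟩ := hkey (π ⟨s, hSN hs⟩) ((hPmem _).2 hs) (fun he => hsD ((hπ1 _).1 he))
    have h1 : π (⟨t, hSN ht⟩⁻¹ * ⟨s, hSN hs⟩) = 1 := by
      rw [map_mul, map_inv, he, inv_mul_cancel]
    simpa using (hπ1 _).1 h1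

end Cfsg.Agent.MaxInv39
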