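import Cfsg.Agent.MaxInv39.Complement
import Cfsg.Agent.FTDown.InvariantMaximal

/-!
A nilpotent maximal invariant subgroup with Sylow `2`-subgroup of class at most two, for coprime
action: the group is solvable, given the odd order theorem.
-/

set_option autoImplicit false
set_option linter.style.haveILetI false

namespace Cfsg.Agent.MaxInv39

open Cfsg Subgroup Cfsg.Agent.FTDown
open scoped commutatorElement

universe u v

variable {A : Type v} [Group A] [Finite A]

/-- The restriction of an action to an invariant subgroup. -/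
def restrict {G : Type u} [Group G] [Finite G] {B : Type*} [Group B] (φ : B →* MulAut G)
    (K : Subgroup G) (hK : ∀ b, ∀ x ∈ K, φ b x ∈ K) : B →* MulAut K :=
  MonoidHom.mk' (fun b =>
    { toFun := fun x => ⟨φ b x, hK b x x.2⟩
      invFun := fun x => ⟨φ b⁻¹ x, hK b⁻¹ x x.2⟩
      left_inv := fun x => Subtype.ext (by simp [map_inv])
      right_inv := fun x => Subtype.ext (by simp [map_inv])
      map_mul' := fun x y => Subtype.ext (map_mul (φ b) (x : G) y) })
    fun b c => MulEquiv.ext fun x => Subtype.ext (by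
      show φ (b * c) x = φ b (φ c x)
      rw [map_mul, MulAut.mul_apply])

/-- All triples of `2`-elements of `M` have central commutators. -/
def ClassTwoAt {G : Type u} [Group G] (M : Subgroup G) : Prop :=
  ∀ S : Sylow 2 M, ∀ a ∈ (S : Subgroup M), ∀ b ∈ (S : Subgroup M), ∀ c ∈ (S : Subgroup M),
    c * ⁅a, b⁆ = ⁅a, b⁆ * c

section CoreFree

variable {G : Type u} [Group G] [Finite G] (φ : A →* MulAut G) {M : Subgroup G}

theorem normalizer_eq (hMmax : ∀ H : Subgroup G, M ≤ H → H ≠ ⊤ → Inv φ H → H = M)
    (hcore : ∀ Y : Subgroup G, Y ≤ M → Y.Normal → Inv φ Y → Y = ⊥) {Y : Subgroup G}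
    (hY : Y ≤ M) (hYb : Y ≠ ⊥) (hinv : Inv φ Y) (hMY : M ≤ normalizer (Y : Set G)) :
    normalizer (Y : Set G) = M := by
  exact hMmax _ hMY (fun h => hYb (hcore Y hY (normalizer_eq_top_iff.1 h) hinv))
    (inv_normalizer hinv)

/-- The stabilizer of `M` in the semidirect product. -/
def semiSub {G : Type u} [Group G] {φ : A →* MulAut G} {M : Subgroup G} (hMinv : Inv φ M) :
    Subgroup (G ⋊[φ] A) where
  carrier := {x | x.left ∈ M}
  one_mem' := one_mem M
  mul_mem' := fun {x y} hx hy => by
    show (x * y).left ∈ M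
    rw [SemidirectProduct.mul_left]
    exact mul_mem hx (hMinv _ _ hy)
  inv_mem' := fun {x} hx => by
    show x⁻¹.left ∈ M
    rw [SemidirectProduct.inv_left]
    exact hMinv _ _ (inv_mem hx)

/-- A normal invariant subgroup of order prime to `M` is a group of prime power order. -/
theorem isPGroup_of_minimal [Group.IsSolvable A] (hcop : (Nat.card A).Coprime (Nat.card G))
    (hMinv : Inv φ M)
    (hMmax : ∀ H : Subgroup G, M ≤ H → H ≠ ⊤ → Inv φ H → H = M) (hnil : Group.IsNilpotent M)
    (N : Subgroup G) (hN : N.Normal) (hNinv : Inv φ N)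
    (hNM : ∀ r : ℕ, r.Prime → r ∣ Nat.card M → ¬ r ∣ Nat.card N) (p : ℕ) [Fact p.Prime]
    (hp : p ∣ Nat.card N) : IsPGroup p N := by
  have hcopM : (Nat.card M).Coprime (Nat.card N) :=
    Nat.coprime_of_dvd fun r hr h1 h2 => hNM r hr h1 h2
  haveI : Finite (G ⋊[φ] A) := Coprime.finite_semidirect φ
  set B := semiSub hMinv
  let Φ : (G ⋊[φ] A) →* MulAut G := SemidirectProduct.lift MulAut.conj φ fun a =>
    MonoidHom.ext fun g => MulEquiv.ext fun x => by
      show φ a g * x * (φ a g)⁻¹ = φ a (g * (φ a).symm x * g⁻¹)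
      simp
  have hΦ : ∀ (x : G ⋊[φ] A) (y : G), Φ x y = x.left * φ x.right y * x.left⁻¹ := fun x y => rfl
  let χ : B →* MulAut G := Φ.comp B.subtype
  have hNχ : ∀ b, ∀ x ∈ N, χ b x ∈ N := fun b x hx => by
    rw [show χ b x = Φ b x from rfl, hΦ]
    exact hN.conj_mem _ (hNinv _ _ hx) _
  let eB : B ≃ M × A :=
    { toFun := fun b => (⟨b.1.left, b.2⟩, b.1.right)
      invFun := fun z => ⟨⟨z.1.1, z.2⟩, z.1.2⟩
      left_inv := fun b => rfl
      right_inv := fun z => rfl }
  have hBcop : (Nat.card B).Coprime (Nat.card N) := by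
    rw [Nat.card_congr eB, Nat.card_prod]
    exact hcopM.mul_left (hcop.coprime_dvd_right (card_subgroup_dvd_card N))
  have hBsol : Group.IsSolvable B := by
    let i : M →* B := MonoidHom.mk' (fun m => ⟨SemidirectProduct.inl (m : G), m.2⟩)
      fun a b => Subtype.ext (map_mul SemidirectProduct.inl (a : G) (b : G))
    haveI : Group.IsSolvable M := by haveI := hnil; infer_instance
    refine Group.isSolvable_of_ker_le_range i (SemidirectProduct.rightHom.comp B.subtype) ?_
    intro b hb
    exact ⟨⟨b.1.left, b.2⟩, Subtype.ext (SemidirectProduct.ext rfl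
      ((MonoidHom.mem_ker.1 hb).symm))⟩
  obtain ⟨P, hP⟩ := Coprime.exists_invariant_sylow_hom (restrict χ N hNχ) hBcop (Or.inl hBsol) p
  set P₀ := (P : Subgroup N).map N.subtype
  have hPχ : ∀ b, ∀ x ∈ P₀, χ b x ∈ P₀ := by
    rintro b _ ⟨y, hy, rfl⟩
    exact ⟨_, hP b y hy, rfl⟩
  have hPinv : Inv φ P₀ := fun a x hx => by
    have h := hPχ ⟨SemidirectProduct.inr a, (one_mem M : (1 : G) ∈ M)⟩ x hx
    rw [show χ ⟨SemidirectProduct.inr a, (one_mem M : (1 : G) ∈ M)⟩ x =
      Φ (SemidirectProduct.inr a) x from rfl, hΦ] at h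
    simpa using h
  have hMP : M ≤ normalizer (P₀ : Set G) := by
    intro m hm
    refine mem_normalizer_iff_map_conj_eq.2 (eq_of_le_of_card_ge ?_
      (card_map_of_injective (MulAut.conj m).injective).ge)
    rintro _ ⟨x, hx, rfl⟩
    have h := hPχ ⟨SemidirectProduct.inl m, hm⟩ x hx
    rw [show χ ⟨SemidirectProduct.inl m, hm⟩ x = Φ (SemidirectProduct.inl m) x from rfl, hΦ] at h
    simpa using h
  set H := P₀ ⊔ M
  have hHinv : Inv φ H := fun a x hx => by
    have h := (map_sup P₀ M (φ a).toMonoidHom).le ⟨x, hx, rfl⟩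
    rwa [hPinv.map_eq a, hMinv.map_eq a] at h
  have hPN : P₀ ≤ N := map_subtype_le _
  have hinf : N ⊓ M = ⊥ := disjoint_iff.1 (disjoint_of_coprime_natCard hcopM.symm)
  have hPne : P₀ ≠ ⊥ := by
    rw [Ne, map_eq_bot_iff_of_injective _ N.subtype_injective]
    exact P.ne_bot_of_dvd_card hp
  have htop : H = ⊤ := by
    by_contra hne
    refine hPne (eq_bot_iff.2 (le_trans (le_inf hPN ?_) hinf.le))
    exact (le_sup_left : P₀ ≤ H).trans (hMmax H le_sup_right hne hHinv).le
  have hle : N ≤ P₀ := by
    intro x hx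
    have hxH : x ∈ ((H : Subgroup G) : Set G) := htop.ge (mem_top x)
    rw [show ((H : Subgroup G) : Set G) = ↑(P₀ ⊔ M) from rfl,
      coe_mul_of_right_le_normalizer_left _ _ hMP] at hxH
    obtain ⟨y, hy, m, hm, rfl⟩ := hxH
    have hmN : m ∈ N := by simpa using mul_mem (inv_mem (hPN hy)) hx
    rw [mem_bot.1 (hinf.le ⟨hmN, hm⟩)]
    simpa using hy
  exact (P.2.map N.subtype).to_le hle

theorem isSolvable_coreFree [Group.IsSolvable A] (hcop : (Nat.card A).Coprime (Nat.card G))
    (hMinv : Inv φ M)
    (hMmax : ∀ H : Subgroup G, M ≤ H → H ≠ ⊤ → Inv φ H → H = M)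
    (hnil : Group.IsNilpotent M) (h2 : ClassTwoAt M)
    (hcore : ∀ Y : Subgroup G, Y ≤ M → Y.Normal → Inv φ Y → Y = ⊥) : Group.IsSolvable G := by
  classical
  -- the Sylow subgroups of `M`
  have hsyl : ∀ (r : ℕ) [Fact r.Prime] (R : Sylow r M),
      (R : Subgroup M).Characteristic ∧ Inv φ ((R : Subgroup M).map M.subtype) ∧
        M ≤ normalizer ((R : Subgroup M).map M.subtype : Set G) := by
    intro r _ R
    have hn : (R : Subgroup M).Normal :=
      (Group.isNilpotent_of_finite_tfae.out 0 3 rfl rfl).mp hnil r inferInstance R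
    have hchar := Sylow.characteristic_of_normal R hn
    refine ⟨hchar, fun a x hx => ?_, ?_⟩
    · obtain ⟨y, hy, rfl⟩ := hx
      let e := restrict φ M hMinv a
      exact ⟨e y, (characteristic_iff_le_comap.1 hchar e) hy, rfl⟩
    · exact (normal_subgroupOf_iff_le_normalizer (map_subtype_le _)).1
        (by rw [show ((R : Subgroup M).map M.subtype).subgroupOf M = (R : Subgroup M) from
          comap_map_eq_self_of_injective M.subtype_injective _]; exact hn)
  have hNR : ∀ (r : ℕ) [Fact r.Prime] (R : Sylow r M), r ∣ Nat.card M →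
      normalizer ((R : Subgroup M).map M.subtype : Set G) = M := by
    intro r _ R hr
    refine normalizer_eq φ hMmax hcore (map_subtype_le _) ?_ (hsyl r R).2.1 (hsyl r R).2.2
    rw [Ne, map_eq_bot_iff_of_injective _ M.subtype_injective]
    exact R.ne_bot_of_dvd_card hr
  -- they are Sylow subgroups of `G`
  have hfull : ∀ (r : ℕ) [Fact r.Prime] (R : Sylow r M), r ∣ Nat.card M →
      ∃ P : Sylow r G, (P : Subgroup G) = (R : Subgroup M).map M.subtype := by
    intro r hr R hd
    set R₀ := (R : Subgroup M).map M.subtype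
    refine ⟨(R.2.map M.subtype).toSylow ?_, rfl⟩
    intro hdvd
    obtain ⟨n, hn⟩ := IsPGroup.iff_card.1 (R.2.map M.subtype : IsPGroup r R₀)
    have h1 : r ^ (n + 1) ∣ Nat.card G := by
      rw [pow_succ, ← hn, ← R₀.card_mul_index]
      exact Nat.mul_dvd_mul_left _ hdvd
    have h2 : r ∣ R₀.relIndex (normalizer (R₀ : Set G)) :=
      Sylow.prime_dvd_card_quotient_normalizer h1 hn
    rw [hNR r R hd] at h2
    refine R.not_dvd_index ?_
    rw [relIndex, show R₀.subgroupOf M = (R : Subgroup M) from
      comap_map_eq_self_of_injective M.subtype_injective _] at h2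
    exact h2
  -- normal complements for the odd primes of `M`
  have hodd : ∀ r : ℕ, r.Prime → r ≠ 2 → r ∣ Nat.card M → HasNormalPComplement r G := by
    intro r hr hr2 hd
    haveI := Fact.mk hr
    obtain ⟨R⟩ := (inferInstance : Nonempty (Sylow r M))
    obtain ⟨P, hP⟩ := hfull r R hd
    refine PComplement.glauberman_thompson hr2 P ?_
    set Z := centerThompsonOf r (P : Subgroup G) with hZ
    have hPinv : Inv φ (P : Subgroup G) := hP ▸ (hsyl r R).2.1
    have hPne : (P : Subgroup G) ≠ ⊥ := P.ne_bot_of_dvd_card (hd.trans (card_subgroup_dvd_card M))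
    have hZinv : Inv φ Z := by
      intro a x hx
      have h := PComplement.centerThompsonOf_map (p := r) (φ a).toMonoidHom (P : Subgroup G)
        (fun _ _ _ _ h => (φ a).injective h)
      rw [hPinv.map_eq a] at h
      exact h.le ⟨x, hx, rfl⟩
    have hZM : Z ≤ M := fun x hx => by
      have := Thompson.thompsonSubgroupOf_le _ hx.1
      rw [hP] at this
      exact map_subtype_le _ this
    have hMZ : M ≤ normalizer (Z : Set G) := by
      refine le_trans ?_ (PComplement.normalizer_le_normalizer_centerThompsonOf _)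
      rw [hP]; exact (hsyl r R).2.2
    rw [normalizer_eq φ hMmax hcore hZM (PComplement.centerThompsonOf_ne_bot P.2 hPne) hZinv hMZ]
    exact Frobenius.hasNormalPComplement_of_isNilpotent hnil r
  -- their intersection
  set ι := {r : ℕ // r.Prime ∧ r ≠ 2 ∧ r ∣ Nat.card M}
  haveI : Finite ι := by
    refine Finite.of_injective (β := Fin (Nat.card M + 1)) (fun r => ⟨r.1, ?_⟩) ?_
    · have := Nat.le_of_dvd Nat.card_pos r.2.2.2; omega
    · intro a b h; exact Subtype.ext (congrArg Fin.val h)
  set K := ⨅ r : ι, pResidual r.1 G with hK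
  have hKinv : Inv φ K := fun a x hx => mem_iInf.2 fun r =>
    (Transfer.map_pResidual_equiv (p := r.1) (φ a)).le ⟨x, mem_iInf.1 hx r, rfl⟩
  have hKn : K.Normal := normal_iInf_normal fun r => inferInstance
  have hKcop : ∀ r : ℕ, r.Prime → r ≠ 2 → r ∣ Nat.card M → ¬ r ∣ Nat.card K := by
    intro r hr hr2 hd hrK
    haveI := Fact.mk hr
    exact Transfer.hasNormalPComplement_iff_not_dvd.1 (hodd r hr hr2 hd)
      (hrK.trans (card_dvd_of_le (iInf_le (fun r : ι => pResidual r.1 G) ⟨r, hr, hr2, hd⟩)))
  -- `G / K` is solvable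
  have hquot : Group.IsSolvable (G ⧸ K) := by
    let f : G →* (∀ r : ι, G ⧸ pResidual r.1 G) := MonoidHom.mk'
      (fun g r => QuotientGroup.mk' (pResidual r.1 G) g) fun a b => funext fun r => map_mul _ a b
    have hker : f.ker ≤ K := fun g hg => mem_iInf.2 fun r =>
      (QuotientGroup.eq_one_iff g).1 (congrFun hg r)
    have hpi : ∃ n, derivedSeries G n ≤ K := by
      have hn : ∀ r : ι, ∃ n, derivedSeries G n ≤ pResidual r.1 G := by
        intro r
        haveI := Fact.mk r.2.1
        haveI : Group.IsNilpotent (G ⧸ pResidual r.1 G) :=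
          (Transfer.isPGroup_quotient_pResidual (p := r.1)).isNilpotent
        obtain ⟨n, hn⟩ := (inferInstance : Group.IsSolvable (G ⧸ pResidual r.1 G)).solvable
        refine ⟨n, fun x hx => (QuotientGroup.eq_one_iff x).1 ?_⟩
        exact mem_bot.1 (hn.le (map_derivedSeries_le_derivedSeries (QuotientGroup.mk' _) n ⟨x, hx, rfl⟩))
      choose n hn using hn
      haveI := Fintype.ofFinite ι
      exact ⟨Finset.univ.sup n, le_iInf fun r =>
        (derivedSeries_antitone G (Finset.le_sup (Finset.mem_univ r))).trans (hn r)⟩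
    obtain ⟨n, hn⟩ := hpi
    refine ⟨⟨n, eq_bot_iff.2 ?_⟩⟩
    rw [← map_derivedSeries_eq (QuotientGroup.mk'_surjective K) n]
    exact (map_mono hn).trans (QuotientGroup.map_mk'_self K).le
  -- the normal `2`-complement of `K`
  haveI : Fact (Nat.Prime 2) := ⟨Nat.prime_two⟩
  have hK2 : HasNormalPComplement 2 K := by
    obtain ⟨R⟩ := (inferInstance : Nonempty (Sylow 2 M))
    by_cases hd : 2 ∣ Nat.card M
    swap
    · -- then `M ∩ K` is trivial, and `K` has no proper nontrivial invariant subgroup normalized by `M`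
      by_cases hd2 : 2 ∣ Nat.card K
      swap
      · exact Transfer.hasNormalPComplement_iff_not_dvd.2
          (fun h => hd2 (h.trans (card_subgroup_dvd_card _)))
      have hp := isPGroup_of_minimal φ hcop hMinv hMmax hnil K hKn hKinv (fun r hr hrM hrK => by
        rcases eq_or_ne r 2 with rfl | h
        · exact hd hrM
        · exact hKcop r hr h hrM hrK) 2 hd2
      exact Transfer.hasNormalPComplement_of_not_dvd_card (N := (⊥ : Subgroup K)) (by simp)
        (hp.to_quotient ⊥)
    obtain ⟨P, hP⟩ := hfull 2 R hd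
    have hPK : (P : Subgroup G) ≤ K := fun x hx => mem_iInf.2 fun r => by
      refine Transfer.mem_pResidual_of_coprime ?_
      obtain ⟨k, hk⟩ := IsPGroup.iff_orderOf.1 P.2 ⟨x, hx⟩
      rw [Subgroup.orderOf_mk] at hk
      rw [hk]
      exact ((Nat.coprime_primes Nat.prime_two r.2.1).2 (Ne.symm r.2.2.1)).pow_left k
    set PK : Sylow 2 K := P.subtype hPK
    have hPKmem : ∀ y : K, y ∈ (PK : Subgroup K) ↔ (y : G) ∈ (P : Subgroup G) := fun y =>
      (Sylow.coe_subtype P hPK ▸ Iff.rfl : y ∈ (PK : Subgroup K) ↔ y ∈ (P : Subgroup G).subgroupOf K)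
    let ψ := restrict φ K hKinv
    have hMK : M ⊓ K ≤ (P : Subgroup G) := by
      intro x hx
      obtain ⟨e, he⟩ : ∃ e, orderOf x = 2 ^ e := by
        refine ⟨_, Nat.eq_prime_pow_of_unique_prime_dvd (orderOf_pos x).ne' fun {q} hq hqd => ?_⟩
        by_contra hne
        exact hKcop q hq hne (hqd.trans (orderOf_dvd_natCard _ hx.1))
          (hqd.trans (orderOf_dvd_natCard _ hx.2))
      have hxR : (⟨x, hx.1⟩ : M) ∈ (R : Subgroup M) := by
        haveI := Sylow.unique_of_normal R
          ((Group.isNilpotent_of_finite_tfae.out 0 3 rfl rfl).mp hnil 2 inferInstance R)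
        obtain ⟨Q, hQ⟩ := (IsPGroup.of_card (p := 2) (n := e)
          (G := zpowers (⟨x, hx.1⟩ : M)) (by rw [Nat.card_zpowers, Subgroup.orderOf_mk, he])).exists_le_sylow
        rw [Subsingleton.elim Q R] at hQ
        exact hQ (mem_zpowers _)
      rw [hP]; exact ⟨⟨x, hx.1⟩, hxR, rfl⟩
    refine hasNormalPComplement_two PK ψ.range ?_ ?_ ?_ ?_
    · rintro f ⟨a, rfl⟩
      have hA : Odd (Nat.card A) := Nat.coprime_two_right.1
        (hcop.coprime_dvd_right (hd.trans (card_subgroup_dvd_card M)))
      exact hA.of_dvd_nat ((orderOf_map_dvd ψ a).trans (orderOf_dvd_natCard a))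
    · rintro f ⟨a, rfl⟩
      refine eq_of_le_of_card_ge ?_ (card_map_of_injective
        (show Function.Injective (ψ a).toMonoidHom from (ψ a).injective)).ge
      rintro _ ⟨y, hy, rfl⟩
      replace hy := (hPKmem y).1 hy
      refine (hPKmem _).2 ?_
      rw [hP] at hy ⊢
      exact (hsyl 2 R).2.1 a _ hy
    · intro a ha b hb c hc
      rw [hPKmem, hP] at ha hb hc
      obtain ⟨a', ha', hae⟩ := ha
      obtain ⟨b', hb', hbe⟩ := hb
      obtain ⟨c', hc', hce⟩ := hc
      have h := congrArg M.subtype (h2 R a' ha' b' hb' c' hc')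
      simp only [map_mul, map_commutatorElement, hae, hbe, hce] at h
      exact Subtype.ext (by simpa [commutatorElement_def] using h)
    · intro Y hY hYb hYinv hPY
      set Y₀ := Y.map K.subtype
      have hY₀M : Y₀ ≤ M := by
        rintro _ ⟨y, hy, rfl⟩
        have := (hPKmem y).1 (hY hy)
        rw [hP] at this
        exact map_subtype_le _ this
      have hY₀inv : Inv φ Y₀ := by
        rintro a _ ⟨y, hy, rfl⟩
        exact ⟨ψ a y, (hYinv (ψ a) ⟨a, rfl⟩).le ⟨y, hy, rfl⟩, rfl⟩
      -- the `2`-complement of `M` centralizes `Y`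
      have hMY : M ≤ normalizer (Y₀ : Set G) := by
        have hRn : (R : Subgroup M).Normal :=
          (Group.isNilpotent_of_finite_tfae.out 0 3 rfl rfl).mp hnil 2 inferInstance R
        obtain ⟨C, hC⟩ := exists_left_complement'_of_coprime R.card_coprime_index
        intro m hm
        obtain ⟨⟨c, s⟩, hcs⟩ := hC.2 ⟨m, hm⟩
        have hm' : m = ((c : M) : G) * ((s : M) : G) := congrArg Subtype.val hcs.symm
        rw [hm']
        refine mul_mem ?_ ?_
        · refine centralizer_le_normalizer _ (mem_centralizer_iff.2 fun y hy => ?_)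
          obtain ⟨y', hy', rfl⟩ := hy
          have hy'' := (hPKmem y').1 (hY hy')
          rw [hP] at hy''
          obtain ⟨w, hw, hwe⟩ := hy''
          have hcw := Transfer.nilpotent_commute_of_coprime hnil (x := (c : M)) (y := w) ?_
          · have h := (congrArg M.subtype hcw.eq).symm
            simp only [map_mul, hwe] at h
            exact h
          refine (Nat.Coprime.coprime_dvd_left (orderOf_dvd_natCard _ c.2) ?_).coprime_dvd_right
            (orderOf_dvd_natCard _ hw)
          exact (hC.index_eq_card ▸ R.card_coprime_index).symm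
        · have hs : ((s : M) : G) ∈ (P : Subgroup G) := by rw [hP]; exact ⟨_, s.2, rfl⟩
          exact le_normalizer_map K.subtype ⟨⟨_, hPK hs⟩, hPY ((hPKmem ⟨_, hPK hs⟩).2 hs), rfl⟩
      have hN := normalizer_eq φ hMmax hcore hY₀M
        (by rwa [Ne, map_eq_bot_iff_of_injective _ K.subtype_injective]) hY₀inv hMY
      refine le_antisymm (fun g hg => ?_) hPY
      rw [hPKmem]
      exact hMK ⟨hN.le (le_normalizer_map K.subtype ⟨g, hg, rfl⟩), g.2⟩
  -- the complement is a group of prime power order
  set K₁ := (pResidual 2 K).map K.subtype with hK1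
  have hK1sol : Group.IsSolvable K₁ := by
    rcases eq_or_ne (Nat.card K₁) 1 with h1 | h1
    · haveI := (Nat.card_eq_one_iff_unique.1 h1).1
      infer_instance
    obtain ⟨p, hp, hpd⟩ := Nat.exists_prime_and_dvd h1
    haveI := Fact.mk hp
    haveI : K.Normal := hKn
    suffices IsPGroup p K₁ by
      haveI := this.isNilpotent
      infer_instance
    refine isPGroup_of_minimal φ hcop hMinv hMmax hnil K₁ ?_ ?_ ?_ p hpd
    · exact inferInstance
    · rintro a _ ⟨y, hy, rfl⟩
      exact ⟨restrict φ K hKinv a y,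
        (Transfer.map_pResidual_equiv (p := 2) (restrict φ K hKinv a)).le ⟨y, hy, rfl⟩, rfl⟩
    · intro r hr hrM hrK
      rw [hK1, card_map_of_injective K.subtype_injective] at hrK
      rcases eq_or_ne r 2 with rfl | h
      · exact Transfer.hasNormalPComplement_iff_not_dvd.1 hK2 hrK
      · exact hKcop r hr h hrM (hrK.trans (card_subgroup_dvd_card _))
  haveI hKsol : Group.IsSolvable K := by
    haveI : Group.IsSolvable (pResidual 2 K) :=
      Group.isSolvable_of_surjective
        (f := ((pResidual 2 K).equivMapOfInjective _ K.subtype_injective).symm.toMonoidHom)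
        ((pResidual 2 K).equivMapOfInjective _ K.subtype_injective).symm.surjective
    haveI : Group.IsNilpotent (K ⧸ pResidual 2 K) :=
      (Transfer.isPGroup_quotient_pResidual (p := 2)).isNilpotent
    exact Group.isSolvable_of_ker_le_range (pResidual 2 K).subtype (QuotientGroup.mk' (pResidual 2 K))
      (by rw [QuotientGroup.ker_mk', range_subtype])
  haveI := hquot
  exact Group.isSolvable_of_ker_le_range K.subtype (QuotientGroup.mk' K)
    (by rw [QuotientGroup.ker_mk', range_subtype])

end CoreFree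

/-- A coprime action with a nilpotent maximal invariant subgroup whose Sylow `2`-subgroup has
class at most two forces solvability, given the odd order theorem. -/
theorem isSolvable_of_nilpotent_maximal (hFTA : OddOrderGlue.FeitThompson.{v})
    (hFTG : OddOrderGlue.FeitThompson.{u}) {G : Type u} [Group G] [Finite G] (φ : A →* MulAut G)
    (hcop : (Nat.card A).Coprime (Nat.card G)) (M : Subgroup G)
    (hMinv : ∀ a : A, ∀ m : G, m ∈ M → φ a m ∈ M)
    (hMmax : ∀ H : Subgroup G, M ≤ H → H ≠ ⊤ → (∀ a : A, ∀ h : G, h ∈ H → φ a h ∈ H) → H = M)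
    (hnil : Group.IsNilpotent M)
    (h2 : ∀ S : Sylow 2 ↥M, Group.nilpotencyClass ↥(S : Subgroup ↥M) ≤ 2) :
    Group.IsSolvable G := by
  rcases Nat.even_or_odd (Nat.card G) with hG | hG
  swap
  · exact hFTG G hG
  haveI : Group.IsSolvable A :=
    hFTA A (Nat.coprime_two_right.1 (hcop.coprime_dvd_right hG.two_dvd))
  haveI : Fact (Nat.Prime 2) := ⟨Nat.prime_two⟩
  haveI := hnil
  have hclass : ClassTwoAt M := by
    intro S a ha b hb c hc
    haveI : Group.IsNilpotent (S : Subgroup M) := S.2.isNilpotent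
    have h3 : (⊤ : Subgroup (S : Subgroup M)).lowerCentralSeries 2 = ⊥ :=
      Subgroup.lowerCentralSeries_eq_bot_iff_nilpotencyClass_le.2 (h2 S)
    have hab : ⁅(⟨a, ha⟩ : (S : Subgroup M)), (⟨b, hb⟩ : (S : Subgroup M))⁆ ∈
        (⊤ : Subgroup (S : Subgroup M)).lowerCentralSeries 1 := by
      rw [Subgroup.lowerCentralSeries_succ, Subgroup.lowerCentralSeries_zero]
      exact Subgroup.commutator_mem_commutator (Subgroup.mem_top _) (Subgroup.mem_top _)
    have habc : ⁅⁅(⟨a, ha⟩ : (S : Subgroup M)), (⟨b, hb⟩ : (S : Subgroup M))⁆,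
        (⟨c, hc⟩ : (S : Subgroup M))⁆ = 1 := by
      rw [← Subgroup.mem_bot, ← h3, Subgroup.lowerCentralSeries_succ]
      exact Subgroup.commutator_mem_commutator hab (Subgroup.mem_top _)
    have h := congrArg Subtype.val (commutatorElement_eq_one_iff_mul_comm.1 habc)
    exact h.symm
  -- pass to the quotient by the core of `M`
  set C := M.normalCore with hC
  have hCinv : Inv φ C := by
    intro a x hx g
    obtain ⟨h, rfl⟩ := (φ a).surjective g
    rw [← map_inv, ← map_mul, ← map_mul]
    exact hMinv a _ (hx h)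
  let ψ : A →* MulAut (G ⧸ C) := MonoidHom.mk'
    (fun a => QuotientGroup.congr C C (φ a) (hCinv.map_eq a))
    fun a b => MulEquiv.ext fun x => by
      obtain ⟨y, rfl⟩ := QuotientGroup.mk'_surjective C x
      show QuotientGroup.mk' C (φ (a * b) y) = QuotientGroup.mk' C (φ a (φ b y))
      rw [map_mul, MulAut.mul_apply]
  set π := QuotientGroup.mk' C with hπ
  have hπs : Function.Surjective π := QuotientGroup.mk'_surjective C
  have hCM : C ≤ M := M.normalCore_le
  have hMc : (M.map π).comap π = M := by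
    rw [comap_map_eq, hπ, QuotientGroup.ker_mk', sup_eq_left.2 hCM]
  have hMinv' : Inv ψ (M.map π) := by
    rintro a _ ⟨m, hm, rfl⟩
    exact ⟨φ a m, hMinv a m hm, rfl⟩
  have hlift : ∀ H : Subgroup (G ⧸ C), Inv ψ H → Inv φ (H.comap π) := fun H hH a x hx => hH a _ hx
  haveI : Group.IsNilpotent (M.map π) :=
    Group.nilpotent_of_surjective (π.subgroupMap M) (π.subgroupMap_surjective M)
  haveI hq : Group.IsSolvable (G ⧸ C) := by
    refine isSolvable_coreFree ψ (hcop.coprime_dvd_right (card_quotient_dvd_card C)) hMinv'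
      ?_ inferInstance ?_ ?_
    · intro H hle htop hH
      have h1 := hMmax (H.comap π) (map_le_iff_le_comap.1 hle)
        (fun h => htop (by rw [← map_comap_eq_self_of_surjective hπs H, h,
          map_top_of_surjective π hπs])) (hlift H hH)
      rw [← map_comap_eq_self_of_surjective hπs H, h1]
    · intro S x hx y hy z hz
      obtain ⟨T⟩ := (inferInstance : Nonempty (Sylow 2 M))
      have hs := π.subgroupMap_surjective M
      obtain ⟨g, hg⟩ := MulAction.exists_smul_eq (M.map π) (T.mapSurjective hs) S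
      haveI : (S : Subgroup (M.map π)).Normal :=
        (Group.isNilpotent_of_finite_tfae.out 0 3 rfl rfl).mp inferInstance 2 inferInstance S
      haveI := Sylow.unique_of_normal S inferInstance
      rw [← Subsingleton.elim (T.mapSurjective hs) S, Sylow.coe_mapSurjective] at hx hy hz
      obtain ⟨a, ha, rfl⟩ := hx
      obtain ⟨b, hb, rfl⟩ := hy
      obtain ⟨c, hc, rfl⟩ := hz
      rw [← map_commutatorElement, ← map_mul, ← map_mul, hclass T a ha b hb c hc]
    · intro Y hY hYn hYinv
      haveI := hYn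
      have h1 : Y.comap π ≤ C := normal_le_normalCore.2 ((comap_mono hY).trans hMc.le)
      rw [eq_bot_iff, ← map_comap_eq_self_of_surjective hπs Y]
      exact (map_mono h1).trans (QuotientGroup.map_mk'_self C).le
  haveI : Group.IsSolvable M := inferInstance
  haveI : Group.IsSolvable C := Group.isSolvable_of_isSolvable_injective
    (f := inclusion hCM) (inclusion_injective hCM)
  exact Group.isSolvable_of_ker_le_range C.subtype π
    (by rw [hπ, QuotientGroup.ker_mk', range_subtype])

end Cfsg.Agent.MaxInv39
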