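import Cfsg.Agent.MaxInv39.GoodSubgroup

/-!
Pairs of maximal good subgroups whose central involutions do not commute.
-/

set_option autoImplicit false

namespace Cfsg.Agent.MaxInv39

open Subgroup
open scoped commutatorElement

variable {G : Type*} [Group G] [Finite G] {S D E F : Subgroup G}

omit [Finite G] in
theorem eq_one_of_conj_mul {k y a : G} (hk : Odd (orderOf k)) (hky : k * y * k⁻¹ = a * y)
    (hka : k * a * k⁻¹ = a) {n : ℕ} (ha : a ^ 2 ^ n = 1) : a = 1 := by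
  have hit : ∀ m : ℕ, k ^ m * y * (k ^ m)⁻¹ = a ^ m * y := by
    intro m
    induction m with
    | zero => simp
    | succ m ih =>
      have h1 : k * a ^ m * k⁻¹ = a ^ m := by rw [← conj_pow, hka]
      calc k ^ (m + 1) * y * (k ^ (m + 1))⁻¹ = k * (k ^ m * y * (k ^ m)⁻¹) * k⁻¹ := by
            rw [pow_succ']; group
        _ = k * a ^ m * k⁻¹ * (k * y * k⁻¹) := by rw [ih]; group
        _ = a ^ (m + 1) * y := by rw [h1, hky, pow_succ]; group
  have h2 : a ^ orderOf k = 1 := by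
    have h := hit (orderOf k)
    rw [pow_orderOf_eq_one] at h
    simpa using h
  exact orderOf_eq_one_iff.1 (Nat.eq_one_of_dvd_coprimes ((Nat.coprime_two_left.2 hk).pow_left n)
    (orderOf_dvd_of_pow_eq_one ha) (orderOf_dvd_of_pow_eq_one h2))

theorem MaxGood.line (h : Ctx S) (hD : MaxGood S D) {w r r' : G} (hw : w ∈ omegaCenter D)
    (hr : r ∈ S) (hrD : r ∉ D) (hr' : r' ∈ S) (hr'D : r' ∉ D) : ⁅r, w⁆ = ⁅r', w⁆ := by
  obtain ⟨t, k, d, ht, htD, -, -, -, -, -, hidx⟩ := hD.index_two h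
  suffices ∀ r ∈ S, r ∉ D → ⁅r, w⁆ = ⁅t, w⁆ by rw [this r hr hrD, this r' hr' hr'D]
  intro r hr hrD
  have hd := hidx r hr hrD
  have h1 : ⁅t⁻¹ * r, w⁆ = 1 := commutatorElement_eq_one_iff_mul_comm.2 (hw.2.1 _ hd)
  calc ⁅r, w⁆ = ⁅t * (t⁻¹ * r), w⁆ := by rw [mul_inv_cancel_left]
    _ = ⁅t, w⁆ * ⁅t⁻¹ * r, w⁆ := comm_mul_left h ht (hD.le hd) (hD.le hw.1)
    _ = ⁅t, w⁆ := by rw [h1, mul_one]

/-- An element of odd order in `N_G(D)`, outside `S`, that is trivial on `D` modulo `Ω₁(Z(D))`;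
when all commutators of `S` with `Ω₁(Z(D))` lie in `{1, z}`, it moves `z`. -/
theorem MaxGood.exists_moving (h : Ctx S) (hD : MaxGood S D) :
    ∃ k : G, k ∉ S ∧ (∀ y ∈ D, k * y * k⁻¹ * y⁻¹ ∈ omegaCenter D) ∧
      ∀ z : G, (∀ r ∈ S, ∀ v ∈ omegaCenter D, ⁅r, v⁆ = 1 ∨ ⁅r, v⁆ = z) →
        ∀ a ∈ D, ∀ b ∈ D, a * a ≠ z ∧ ⁅a, b⁆ ≠ z := by
  obtain ⟨t, k, d, ht, htD, hkN, hk1, hkodd, hd, hinv, hidx⟩ := hD.index_two h
  have hkS : k ∉ S := fun hkS => hk1 (by
    obtain ⟨n, hn⟩ := h.two ⟨k, hkS⟩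
    exact orderOf_eq_one_iff.1 (Nat.eq_one_of_dvd_coprimes
      ((Nat.coprime_two_left.2 hkodd).pow_left n)
      (orderOf_dvd_of_pow_eq_one (by simpa using congrArg Subtype.val hn)) dvd_rfl))
  have hkD : ∀ y ∈ D, k * y * k⁻¹ ∈ D := fun y hy => (mem_normalizer_iff.1 hkN y).1 hy
  set C := D ⊓ centralizer (D : Set G) with hC
  have hNC : ∀ g ∈ normalizer (D : Set G), g ∈ normalizer (C : Set G) := by
    have hle : ∀ g ∈ normalizer (D : Set G), ∀ c ∈ C, g * c * g⁻¹ ∈ C := by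
      refine fun g hg c hc => ⟨(mem_normalizer_iff.1 hg c).1 hc.1, mem_centralizer_iff.2 ?_⟩
      intro e he
      have h1 := mem_centralizer_iff.1 hc.2 (g⁻¹ * e * g⁻¹⁻¹)
        ((mem_normalizer_iff.1 (inv_mem hg) e).1 he)
      calc e * (g * c * g⁻¹) = g * (g⁻¹ * e * g⁻¹⁻¹ * c) * g⁻¹ := by group
        _ = g * (c * (g⁻¹ * e * g⁻¹⁻¹)) * g⁻¹ := by rw [h1]
        _ = _ := by group
    refine fun g hg => mem_normalizer_iff.2 fun c => ⟨hle g hg c, fun hc => ?_⟩
    simpa [mul_assoc] using hle g⁻¹ (inv_mem hg) _ hc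
  have htN : t ∈ normalizer (D : Set G) := hD.toGood.le_norm h ht
  have hcenter : ∀ a ∈ S, ∀ b ∈ S, ⁅a, b⁆ ∈ C := fun a ha b hb => by
    have h1 := comm_mem h ha hb
    exact ⟨hD.center_le h1, mem_centralizer_iff.2 fun e he =>
      mem_centralizer_iff.1 h1.2 e (hD.le he)⟩
  -- `k` is trivial on `D` modulo its center
  have hmodC : ∀ y ∈ D, k * y * k⁻¹ * y⁻¹ ∈ C := fun y hy =>
    conj_mem_of_inverted hkodd (hNC k hkN) (hNC t htN) hinv
      (hcenter t ht y (hD.le hy)) (hcenter t ht _ (hD.le (hkD y hy)))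
      (hcenter d (hD.le hd) y (hD.le hy))
  -- `k` fixes the squares of the center
  have htsq : ∀ c ∈ C, t * (c * c) * t⁻¹ * (c * c)⁻¹ = 1 := by
    intro c hc
    show ⁅t, c * c⁆ = 1
    rw [comm_mul_right h ht (hD.le hc.1) (hD.le hc.1), ← comm_mul_left h ht ht (hD.le hc.1)]
    exact commutatorElement_eq_one_iff_mul_comm.2
      (mem_centralizer_iff.1 hc.2 _ (hD.sq_mem h ht))
  have hsqfix : ∀ c ∈ C, k * (c * c) * k⁻¹ = c * c := by
    intro c hc
    have hkc := (mem_normalizer_iff.1 (hNC k hkN) c).1 hc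
    have hbot : ∀ g : G, g ∈ normalizer ((⊥ : Subgroup G) : Set G) := fun g =>
      mem_normalizer_iff.2 fun x => by simp [mul_inv_eq_one]
    have h1 := conj_mem_of_inverted (U := ⊥) hkodd (hbot k) (hbot t) hinv
      (mem_bot.2 (htsq c hc)) (mem_bot.2 (by
        rw [show k * (c * c) * k⁻¹ = k * c * k⁻¹ * (k * c * k⁻¹) by group]
        exact htsq _ hkc))
      (mem_bot.2 (by
        rw [mul_inv_eq_one, mul_inv_eq_iff_eq_mul]
        exact mem_centralizer_iff.1 (mul_mem hc hc).2 d hd))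
    exact mul_inv_eq_one.1 (mem_bot.1 h1)
  have hmod : ∀ y ∈ D, k * y * k⁻¹ * y⁻¹ ∈ omegaCenter D := by
    intro y hy
    have ha := hmodC y hy
    set a := k * y * k⁻¹ * y⁻¹ with hadef
    refine ⟨ha.1, fun e he => mem_centralizer_iff.1 ha.2 e he, ?_⟩
    have hky : k * y * k⁻¹ = a * y := by rw [hadef]; group
    have hky2 : k * (y * y) * k⁻¹ = a * a * (y * y) := by
      calc k * (y * y) * k⁻¹ = k * y * k⁻¹ * (k * y * k⁻¹) := by group
        _ = a * (y * a) * y := by rw [hky]; group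
        _ = a * (a * y) * y := by rw [mem_centralizer_iff.1 ha.2 y hy]
        _ = _ := by group
    obtain ⟨n, hn⟩ := h.two ⟨a * a, hD.le (mul_mem ha.1 ha.1)⟩
    exact eq_one_of_conj_mul hkodd hky2 (hsqfix a ha) (n := n)
      (by simpa using congrArg Subtype.val hn)
  refine ⟨k, hkS, hmod, fun z hz a ha b hb => ?_⟩
  -- if `k` fixed `z`, it would centralize `Ω₁(Z(D))`
  have hmove : k * z * k⁻¹ ≠ z := by
    intro hkz
    have hrel : ∀ r ∈ S, ∀ v ∈ omegaCenter D, r * v * r⁻¹ * v⁻¹ ∈ zpowers z := by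
      intro r hr v hv
      rcases hz r hr v hv with e | e
      · rw [← commutatorElement_def, e]; exact one_mem _
      · rw [← commutatorElement_def, e]; exact mem_zpowers z
    have hkU : k ∈ normalizer (zpowers z : Set G) :=
      mem_normalizer_iff_map_conj_eq.2 (by
        rw [MonoidHom.map_zpowers]; exact congrArg zpowers hkz)
    have hkC : k ∈ centralizer (omegaCenter D : Set G) := by
      refine mem_centralizer_iff.2 fun v hv => ?_
      have hkv := conj_mem_omegaCenter hkN hv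
      have hsub : ∀ r ∈ S, r * z * r⁻¹ ∈ zpowers z → r ∈ normalizer (zpowers z : Set G) := by
        intro r _ hr
        refine mem_normalizer_iff_map_conj_eq.2 (eq_of_le_of_card_ge ?_
          (card_map_of_injective (MulAut.conj r).injective).ge)
        rw [MonoidHom.map_zpowers, zpowers_le]
        exact hr
      -- a commutator equal to `z` is central in `S`
      by_cases hall : ∀ r ∈ S, ∀ v ∈ omegaCenter D, r * v = v * r
      · have := conj_mem_of_inverted (U := (⊥ : Subgroup G)) hkodd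
          (mem_normalizer_iff.2 fun x => by simp [mul_inv_eq_one])
          (mem_normalizer_iff.2 fun x => by simp [mul_inv_eq_one]) hinv
          (mem_bot.2 (commutatorElement_eq_one_iff_mul_comm.2 (hall t ht v hv)))
          (mem_bot.2 (commutatorElement_eq_one_iff_mul_comm.2 (hall t ht _ hkv)))
          (mem_bot.2 (commutatorElement_eq_one_iff_mul_comm.2 (hall d (hD.le hd) v hv)))
        exact (mul_inv_eq_iff_eq_mul.1 (mul_inv_eq_one.1 (mem_bot.1 this))).symm
      push Not at hall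
      obtain ⟨r, hr, v', hv', hne⟩ := hall
      have hzc : z ∈ S ⊓ centralizer (S : Set G) := by
        rcases hz r hr v' hv' with e | e
        · exact absurd (commutatorElement_eq_one_iff_mul_comm.1 e) hne
        · exact e ▸ comm_mem h hr (hD.le hv'.1)
      have hSU : ∀ r ∈ S, r ∈ normalizer (zpowers z : Set G) := fun r hr => hsub r hr (by
        rw [mem_centralizer_iff.1 hzc.2 r hr, mul_inv_cancel_right]; exact mem_zpowers z)
      have hv1 := conj_mem_of_inverted hkodd hkU (hSU t ht) hinv (hrel t ht v hv)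
        (hrel t ht _ hkv) (hrel d (hD.le hd) v hv)
      set e := k * v * k⁻¹ * v⁻¹ with he
      have heV : e ∈ omegaCenter D := mul_mem hkv (inv_mem hv)
      have hke : k * e * k⁻¹ = e := by
        obtain ⟨m, hm⟩ := mem_zpowers_iff.1 hv1
        rw [← hm, ← conj_zpow, hkz]
      have h1 := eq_one_of_conj_mul hkodd (show k * v * k⁻¹ = e * v by rw [he]; group) hke
        (n := 1) (by rw [pow_one, sq]; exact heV.2.2)
      exact (mul_inv_eq_iff_eq_mul.1 (mul_inv_eq_one.1 h1)).symm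
    rw [hD.cent_eq h] at hkC
    exact hkS (hD.le hkC)
  have hfix : ∀ y ∈ D, ∃ e ∈ omegaCenter D, k * y * k⁻¹ = e * y := fun y hy =>
    ⟨_, hmod y hy, by group⟩
  obtain ⟨e, he, hea⟩ := hfix a ha
  obtain ⟨f, hf, hfb⟩ := hfix b hb
  refine ⟨fun hza => hmove ?_, fun hzc => hmove ?_⟩
  · subst hza
    calc k * (a * a) * k⁻¹ = k * a * k⁻¹ * (k * a * k⁻¹) := by group
      _ = e * (a * e) * a := by rw [hea]; group
      _ = e * e * (a * a) := by rw [he.2.1 a ha]; group
      _ = a * a := by rw [he.2.2, one_mul]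
  · subst hzc
    have he1 : ∀ y ∈ D, ⁅e, y⁆ = 1 := fun y hy =>
      commutatorElement_eq_one_iff_mul_comm.2 (he.2.1 y hy).symm
    have hf1 : ∀ y ∈ D, ⁅y, f⁆ = 1 := fun y hy =>
      commutatorElement_eq_one_iff_mul_comm.2 (hf.2.1 y hy)
    calc k * ⁅a, b⁆ * k⁻¹ = ⁅k * a * k⁻¹, k * b * k⁻¹⁆ := by
          simp only [commutatorElement_def]; group
      _ = ⁅e * a, f * b⁆ := by rw [hea, hfb]
      _ = ⁅a, b⁆ := by
          rw [comm_mul_left h (hD.le he.1) (hD.le ha) (hD.le (mul_mem hf.1 hb)),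
            comm_mul_right h (hD.le ha) (hD.le hf.1) (hD.le hb), he1 _ (mul_mem hf.1 hb),
            hf1 a ha, one_mul, one_mul]

/-- Data attached to an element of `Ω₁(Z(D))` outside `E`. -/
theorem MaxGood.pair (h : Ctx S) (hD : MaxGood S D) (hE : MaxGood S E) {w : G}
    (hw : w ∈ omegaCenter D) (hwE : w ∉ E) :
    ∃ v z, v ∈ omegaCenter E ∧ v ∉ D ∧ z ≠ 1 ∧ ⁅w, v⁆ = z ∧ ⁅v, w⁆ = z ∧
      (∀ r ∈ S, r * v = v * r → r ∈ E) ∧
      (∀ r ∈ S, ∀ x ∈ omegaCenter D, ⁅r, x⁆ = 1 ∨ ⁅r, x⁆ = z) ∧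
      (∀ r ∈ S, ∀ x ∈ omegaCenter E, ⁅r, x⁆ = 1 ∨ ⁅r, x⁆ = z) := by
  obtain ⟨v, hv, hvw⟩ : ∃ v ∈ omegaCenter E, v * w ≠ w * v := by
    by_contra hall
    push Not at hall
    exact hwE ((hE.cent_eq h).le (mem_centralizer_iff.2 hall))
  have hvD : v ∉ D := fun hvD => hvw (hw.2.1 v hvD)
  have hwS := hD.le hw.1
  have hvS := hE.le hv.1
  have hsym : ∀ a ∈ S, ∀ x, x ∈ omegaCenter D ∨ x ∈ omegaCenter E → ⁅x, a⁆ = ⁅a, x⁆ := by
    intro a ha x hx
    rw [← commutatorElement_inv a x, inv_eq_iff_mul_eq_one]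
    rcases hx with hx | hx
    · exact hD.comm_omega h hx ha
    · exact hE.comm_omega h hx ha
  refine ⟨v, ⁅v, w⁆, hv, hvD, fun e => hvw (commutatorElement_eq_one_iff_mul_comm.1 e),
    hsym v hvS w (Or.inl hw), rfl, fun r hr hrv => ?_, fun r hr x hx => ?_, fun r hr x hx => ?_⟩
  · by_contra hrE
    refine hvw (commutatorElement_eq_one_iff_mul_comm.1 ?_)
    rw [← hsym v hvS w (Or.inl hw), hE.line h hv hwS hwE hr hrE]
    exact commutatorElement_eq_one_iff_mul_comm.2 hrv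
  · by_cases hrD : r ∈ D
    · exact Or.inl (commutatorElement_eq_one_iff_mul_comm.2 (hx.2.1 r hrD))
    rw [hD.line h hx hr hrD hvS hvD]
    by_cases hxE : x ∈ E
    · exact Or.inl (commutatorElement_eq_one_iff_mul_comm.2 (hv.2.1 x hxE).symm)
    · refine Or.inr ?_
      rw [← hsym v hvS x (Or.inl hx), hE.line h hv (hD.le hx.1) hxE hwS hwE, hsym v hvS w (Or.inl hw)]
  · by_cases hrE : r ∈ E
    · exact Or.inl (commutatorElement_eq_one_iff_mul_comm.2 (hx.2.1 r hrE))
    rw [hE.line h hx hr hrE hwS hwE]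
    by_cases hxD : x ∈ D
    · exact Or.inl (commutatorElement_eq_one_iff_mul_comm.2 (hw.2.1 x hxD).symm)
    · refine Or.inr ?_
      rw [← hsym w hwS x (Or.inr hx), hD.line h hw (hE.le hx.1) hxD hvS hvD]

/-- A maximal good subgroup has at most one partner. -/
theorem MaxGood.partner_unique (h : Ctx S) (hD : MaxGood S D) (hE : MaxGood S E)
    (hF : MaxGood S F) {w w' : G} (hw : w ∈ omegaCenter D) (hwE : w ∉ E)
    (hw' : w' ∈ omegaCenter D) (hw'F : w' ∉ F) : E = F := by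
  obtain ⟨v, z, hv, hvD, hz, hwv, -, hvE, hlineD, hlineE⟩ := hD.pair h hE hw hwE
  obtain ⟨u, z', hu, huD, hz', -, huw, huF, -, hlineF⟩ := hD.pair h hF hw' hw'F
  have hzz : z' = z := by
    rcases hlineD u (hF.le hu.1) w' hw' with e | e
    · exact absurd (huw.symm.trans e) hz'
    · exact huw.symm.trans e
  have hvS := hE.le hv.1
  have huS := hF.le hu.1
  obtain ⟨t, -, -, ht, -, -, -, -, -, -, hidx⟩ := hD.index_two h
  obtain ⟨kD, -, -, hfactD⟩ := hD.exists_moving h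
  obtain ⟨kE, -, -, hfactE⟩ := hE.exists_moving h
  have hvu : v * u ∈ D := by
    have hm := mul_mem (inv_mem (hidx v hvS hvD)) (hidx u huS huD)
    rw [mul_inv_rev, inv_inv, mul_assoc, mul_inv_cancel_left, inv_eq_of_mul_eq_one_right hv.2.2]
      at hm
    exact hm
  have hcomm : v * u = u * v := by
    by_contra hne
    refine (hfactD z hlineD _ hvu _ hvu).1 ?_
    rcases hlineF v hvS u hu with e | e
    · exact absurd (commutatorElement_eq_one_iff_mul_comm.1 e) hne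
    · rw [← hzz, ← e, commutatorElement_def, inv_eq_of_mul_eq_one_right hv.2.2,
        inv_eq_of_mul_eq_one_right hu.2.2]
      group
  have huE : u ∈ E := hvE u huS hcomm.symm
  refine eq_of_le_of_card_ge ?_ (hE.maximal F hF.toGood)
  intro e he
  by_contra heF
  rcases hlineF e (hE.le he) u hu with he' | he'
  · exact heF (huF e (hE.le he) (commutatorElement_eq_one_iff_mul_comm.1 he'))
  · exact (hfactE z hlineE e he u huE).2 (he'.trans hzz)

end Cfsg.Agent.MaxInv39
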